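import Groth.Agent.AVVanish.Split
import Groth.Agent.AgVanish.Invariant
import Groth.Agent.AVDeg.Torsion
import Groth.Agent.AVDeg.Pow
import Groth.Agent.S0051
import Groth.Agent.S12005
import Groth.Agent.ClosedRep.GeomIntegral

/-!
Cohomology of ample invertible modules on abelian varieties.
-/

set_option autoImplicit false
set_option backward.isDefEq.respectTransparency false
set_option backward.isDefEq.respectTransparency.types false
set_option linter.style.haveILetI false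
set_option maxHeartbeats 1000000

universe u

open CategoryTheory CategoryTheory.Limits MonoidalCategory CartesianMonoidalCategory MonObj GrpObj AlgebraicGeometry
open TopologicalSpace

noncomputable section

namespace Groth.Agent.AVVanish

attribute [local instance] W7Cube.law AVDeg.overInst

open W7Cube (pull pull_pull pc pull_pc pc_const pc_id pull_cls pc_one)

variable {k : Type u} [Field k] [IsAlgClosed k] {A : Over (Spec (CommRingCat.of k))} [GrpObj A] [IsProper A.hom]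
  [GeometricallyIntegral A.hom] [IsCommMonObj A]

local notation "Dt" c:arg b:arg => pc c (𝟙 A * (toUnit A ≫ b)) * c⁻¹

theorem mul_dt {G : Type*} [CommGroup G] (c d : G) : c * (d * c⁻¹) = d := by
  rw [_root_.mul_comm, inv_mul_cancel_right]

theorem dt_one (c : PicLoc.PicSet A.left) : Dt c (1 : 𝟙_ (Over (Spec (CommRingCat.of k))) ⟶ A) = 1 := by
  rw [MonObj.comp_one, _root_.mul_one, pc_id, mul_inv_cancel]

theorem dt_pow (c : PicLoc.PicSet A.left) (b : 𝟙_ (Over (Spec (CommRingCat.of k))) ⟶ A) (m : ℕ) :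
    Dt c (b ^ m) = (Dt c b) ^ m := by
  induction m with
  | zero => rw [pow_zero, pow_zero]; exact dt_one c
  | succ m ih => rw [pow_succ, pow_succ, ← ih]; exact AgVanish.translate_div_mul c _ _

/-- Translation invariant classes are antisymmetric. -/
theorem pc_inv_of_invariant (e : PicLoc.PicSet A.left)
    (h : ∀ a : 𝟙_ (Over (Spec (CommRingCat.of k))) ⟶ A, pc e (𝟙 A * (toUnit A ≫ a)) = e) :
    pc e (𝟙 A)⁻¹ = e⁻¹ := by
  obtain ⟨E, hE, rfl⟩ := PicGrp.exists_eq_cls e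
  haveI : IsMonHom ((𝟙 A)⁻¹ : A ⟶ A) := by
    rw [← zpow_neg_one]; exact AVDeg.isMonHom_zpow (𝟙 A) (-1)
  obtain ⟨i⟩ := S12005.result k A A (𝟙 A) (𝟙 A)⁻¹ E hE fun a => (AgVanish.pc_cls_eq_iff hE hE _).1 (h a)
  have h1 : pc (PicGrp.cls E hE) (𝟙 A * (𝟙 A)⁻¹) = pc (PicGrp.cls E hE) (𝟙 A) * pc (PicGrp.cls E hE) (𝟙 A)⁻¹ := by
    rw [pc, pc, pc, pull_cls, pull_cls, pull_cls]
    refine Subtype.ext ?_
    rw [PicGrp.cls_mul_cls_val]
    exact (PicGrp.cl_eq_cl_iff _ _).2 ⟨i⟩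
  rw [mul_inv_cancel, pc_one, pc_id] at h1
  exact eq_inv_of_mul_eq_one_right h1.symm

/-- The symmetry moves an ample class by a translation. -/
theorem exists_symm_translate {L : A.left.Modules} (hLa : CohB1.IsAmple L) :
    ∃ x : 𝟙_ (Over (Spec (CommRingCat.of k))) ⟶ A,
      pc (PicGrp.cls L hLa.1) (𝟙 A)⁻¹ = PicGrp.cls L hLa.1 * Dt (PicGrp.cls L hLa.1) x := by
  set c := PicGrp.cls L hLa.1
  have hinv : ∀ a : 𝟙_ (Over (Spec (CommRingCat.of k))) ⟶ A,
      pc (pc c (𝟙 A)⁻¹ * c⁻¹) (𝟙 A * (toUnit A ≫ a)) = pc c (𝟙 A)⁻¹ * c⁻¹ := by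
    intro a
    have e1 : pull (𝟙 A * (toUnit A ≫ a)).left (pc c (𝟙 A)⁻¹) =
        pull ((𝟙 A)⁻¹ : A ⟶ A).left (pc c (𝟙 A * (toUnit A ≫ a⁻¹))) := by
      rw [pull_pc, pull_pc]
      congr 1
      simp only [MonObj.comp_mul, GrpObj.comp_inv, Category.comp_id, comp_toUnit_assoc, _root_.mul_inv_rev]
      exact _root_.mul_comm _ _
    have e2 : pc (Dt c a⁻¹) (𝟙 A)⁻¹ = (Dt c a⁻¹)⁻¹ :=
      pc_inv_of_invariant _ fun b => AgVanish.translate_div_invariant c b a⁻¹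
    have e3 : Dt c a⁻¹ * Dt c a = 1 := by
      rw [← AgVanish.translate_div_mul, inv_mul_cancel, dt_one]
    have e4 : pc c (𝟙 A * (toUnit A ≫ a⁻¹)) = c * Dt c a⁻¹ := (mul_dt _ _).symm
    have e5 : (pc c (𝟙 A * (toUnit A ≫ a)))⁻¹ = c⁻¹ * (Dt c a)⁻¹ := by
      rw [_root_.mul_inv_rev, _root_.inv_inv, ← _root_.mul_assoc, inv_mul_cancel, _root_.one_mul]
    rw [pc, map_mul, map_inv, e1, e4, map_mul]
    change pc c (𝟙 A)⁻¹ * pc (Dt c a⁻¹) (𝟙 A)⁻¹ * (pc c (𝟙 A * (toUnit A ≫ a)))⁻¹ = _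
    rw [e2, e5, eq_inv_of_mul_eq_one_left e3, _root_.inv_inv, _root_.mul_mul_mul_comm, mul_inv_cancel, _root_.mul_one]
  obtain ⟨x, hx⟩ := AgVanish.exists_translate c _ (AVAmple.finite_fixing hLa) hinv
  refine ⟨x, ?_⟩
  rw [hx, inv_mul_cancel_right, mul_dt]

/-- The inverse image of an ample class along multiplication by `n` is a translate of its `n²`-th power. -/
theorem exists_pow_translate {L : A.left.Modules} (hLa : CohB1.IsAmple L) {n : ℕ} (hn : n ≠ 0) :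
    ∃ z : 𝟙_ (Over (Spec (CommRingCat.of k))) ⟶ A,
      pc (PicGrp.cls L hLa.1) (𝟙 A ^ n) = pc (PicGrp.cls L hLa.1 ^ (n * n)) (𝟙 A * (toUnit A ≫ z)) := by
  set c := PicGrp.cls L hLa.1
  obtain ⟨x, hx⟩ := exists_symm_translate hLa
  obtain ⟨z, hz⟩ := AVDeg.exists_pow_eq (A := A) (Nat.mul_ne_zero hn hn) (x ^ (n * (n - 1) / 2))
  have hN : n * (n + 1) / 2 + n * (n - 1) / 2 = n * n := by
    obtain ⟨m, rfl⟩ : ∃ m, n = m + 1 := ⟨n - 1, by omega⟩
    rw [W7Cube.tri_succ, Nat.add_sub_cancel, Nat.mul_comm (m + 1) m]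
    have h2 : 2 ∣ m * (m + 1) := (Nat.even_mul_succ_self m).two_dvd
    nlinarith [Nat.div_mul_cancel h2]
  refine ⟨z, ?_⟩
  have hp : pc (c ^ (n * n)) (𝟙 A * (toUnit A ≫ z)) = (c * Dt c z) ^ (n * n) := by
    rw [mul_dt]
    exact map_pow _ _ _
  rw [hp, W7Cube.pc_pow, hx, mul_pow c (Dt c x), mul_pow c (Dt c z), ← _root_.mul_assoc, ← pow_add, hN, ← dt_pow, ← dt_pow, hz]

/-- Pullbacks of powers by translations have no higher cohomology once the powers have none. -/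
theorem hh_translate {L : A.left.Modules} (hL : PicF.IsInvertible L) (m p : ℕ)
    (h : Subsingleton (Coh.HH A.left (CohB1.tensorPow L m) p)) (z : 𝟙_ (Over (Spec (CommRingCat.of k))) ⟶ A)
    {F : A.left.Modules} (hF : PicF.IsInvertible F)
    (e : PicGrp.cls F hF = pc (PicGrp.cls L hL ^ m) (𝟙 A * (toUnit A ≫ z))) :
    Subsingleton (Coh.HH A.left F p) := by
  let t : A ⟶ A := 𝟙 A * (toUnit A ≫ z)
  have htt : ∀ a : 𝟙_ (Over (Spec (CommRingCat.of k))) ⟶ A,
      (𝟙 A * (toUnit A ≫ a)) ≫ (𝟙 A * (toUnit A ≫ a⁻¹)) = 𝟙 A := fun a => by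
    rw [MonObj.comp_mul, Category.comp_id, comp_toUnit_assoc, GrpObj.comp_inv, mul_inv_cancel_right]
  haveI : IsIso t := ⟨𝟙 A * (toUnit A ≫ z⁻¹), htt z, by simpa using htt z⁻¹⟩
  haveI : IsIso t.left := inferInstanceAs (IsIso ((Over.forget _).map t))
  obtain ⟨M, hM, hMc⟩ := PicGrp.exists_eq_cls (PicGrp.cls L hL ^ m)
  have hm : Nonempty (CohB1.tensorPow L m ≅ M) := by
    refine (PicGrp.cl_eq_cl_iff _ _).1 ?_
    rw [← PicGrp.cls_pow_val hL m, hMc]
    rfl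
  obtain ⟨em⟩ := hm
  rw [hMc, pc, pull_cls, PicGrp.cls_eq_cls_iff] at e
  obtain ⟨i⟩ := e
  exact CohQC.hh_subsingleton_of_iso i.symm p (TwistOverVan.subsingleton_hh_pullback_iso t.left M
    (TMul.isQCoh_of_isInvertible hM) p (CohQC.hh_subsingleton_of_iso em p h))

omit [IsAlgClosed k] in
theorem exists_large_unit (k : Type u) [Field k] (n₀ : ℕ) : ∃ n : ℕ, n₀ ≤ n ∧ n ≠ 0 ∧ (n : k) ≠ 0 := by
  by_cases h : ((n₀ + 1 : ℕ) : k) = 0
  · refine ⟨n₀ + 2, by omega, by omega, ?_⟩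
    rw [Nat.cast_succ, h, _root_.zero_add]
    exact one_ne_zero
  · exact ⟨n₀ + 1, by omega, by omega, h⟩

/-- Ample invertible modules have no higher cohomology. -/
theorem hh_pos {L : A.left.Modules} (hLa : CohB1.IsAmple L) (j : ℕ) (hj : 0 < j) :
    Subsingleton (Coh.HH A.left L j) := by
  haveI : Nonempty A.left := ⟨η[A].left (IsLocalRing.closedPoint k)⟩
  obtain ⟨g, hg⟩ := AVDeg.exists_dim A
  obtain ⟨n₀, hn₀⟩ := (S0051.result k A.left A.hom L hLa.1).1 hLa (Coh.structureModule A.left) (Nakai.isCoh_one k)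
  obtain ⟨n, hle, hn0, hnk⟩ := exists_large_unit k n₀
  haveI := AVDeg.isMonHom_id_pow (A := A) n
  haveI : IsFinite (𝟙 A ^ n).left := AVDeg.isFinite_pow_id hn0
  haveI : Etale (𝟙 A ^ n).left := (AVDeg.natCard_tors_le hg hn0).2.2 (AVDeg.natCard_tors hg hnk)
  have hd : ∀ a : A.left, (𝟙 A ^ n).left.finrank a = n ^ (2 * g) := fun a =>
    (AVDeg.finrank_eq_deg hg _ ‹_› a).trans (AVDeg.deg_pow_id hg n)
  have hu : IsUnit ((n ^ (2 * g) : ℕ) : Γ(A.left, ⊤)) := by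
    have := (isUnit_iff_ne_zero.2 (pow_ne_zero (2 * g) hnk)).map
      ((Scheme.ΓSpecIso (CommRingCat.of k)).inv ≫ A.hom.appTop).hom
    rwa [← Nat.cast_pow, map_natCast] at this
  refine subsingleton_hh_of_pullback (𝟙 A ^ n).left hd hu L (TMul.isQCoh_of_isInvertible hLa.1) j ?_
  obtain ⟨z, hz⟩ := exists_pow_translate hLa hn0
  refine hh_translate hLa.1 (n * n) j ?_ z (PicLoc.isInvertible_pullback _ hLa.1) ((pull_cls _ L hLa.1).symm.trans hz)
  exact CohQC.hh_subsingleton_of_iso (TMul.leftUnitIso _) j (hn₀ _ (hle.trans (Nat.le_mul_self n)) j hj)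

/-- Ample invertible modules have sections. -/
theorem hh_zero {L : A.left.Modules} (hLa : CohB1.IsAmple L) : Nontrivial (Coh.HH A.left L 0) := by
  rw [← not_subsingleton_iff_nontrivial]
  intro h0
  haveI : Nonempty A.left := ⟨η[A].left (IsLocalRing.closedPoint k)⟩
  obtain ⟨g, hg⟩ := AVDeg.exists_dim A
  have hz : Curv2.euler k A.left L = 0 := by
    rw [CurveRR.euler_eq_sum (k := k) L 0 fun i _ => ?_]
    · simp
    · rcases Nat.eq_zero_or_pos i with rfl | hi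
      · exact h0
      · exact hh_pos hLa i hi
  obtain ⟨e⟩ := AVDeg.nonempty_rep_iso hLa.1
  have h := AVDeg.factorial_mul_euler hg (PicGrp.cls L hLa.1)
  rw [CurveRR.euler_eq_of_iso e, hz, Int.cast_zero, mul_zero] at h
  exact (AVDeg.top_pos (k := k) hg hLa).ne h

end Groth.Agent.AVVanish
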