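import Groth.Agent.S19696
import Groth.Agent.ResDesc.Main
import Groth.Agent.FEtRank.PushRank
import Groth.Agent.FibVan.Main
import Groth.Agent.S0927

/-!
A module on the base of a finite flat cover of invertible degree is a direct summand of the direct image of its
inverse image, so vanishing of cohomology descends along such covers.
-/

set_option autoImplicit false
set_option backward.isDefEq.respectTransparency false
set_option backward.isDefEq.respectTransparency.types false
set_option linter.style.haveILetI false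
set_option maxHeartbeats 1000000

universe u

open CategoryTheory CategoryTheory.Limits AlgebraicGeometry TopologicalSpace Opposite

noncomputable section

namespace Groth.Agent.AVVanish

variable {X Y : Scheme.{u}}

/-- Cohomology passes to retracts. -/
theorem subsingleton_hh_retract {M N : X.Modules} (i : M ⟶ N) [IsSplitMono i] (p : ℕ)
    (h : Subsingleton (Coh.HH X N p)) : Subsingleton (Coh.HH X M p) :=
  subsingleton_of_forall_eq 0 fun x => by
    rw [← CohQC.hmap_id (n := p) M x, ← IsSplitMono.id i, CohQC.hmap_comp]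
    exact (congrArg _ (@Subsingleton.elim _ h _ 0)).trans (map_zero _)

/-- Cohomology of a direct image along an affine morphism. -/
theorem subsingleton_hh_of_affine (f : X ⟶ Y) [IsAffineHom f] (M : X.Modules) [M.IsQuasicoherent] (p : ℕ)
    (h : Subsingleton (Coh.HH X M p)) : Subsingleton (Coh.HH Y ((Coh.push f).obj M) p) := by
  obtain ⟨e⟩ := CohQC.hu_push_affine f M ⊤ p
  have e' : CohSite.HU (Coh.toAb M) p (⊤ : X.Opens) ≃+ CohSite.HU (Coh.toAb ((Coh.push f).obj M)) p (⊤ : Y.Opens) := e
  exact ((SiteCoh.huTerminalEquiv (Opens.grothendieckTopology X) isTerminalTop (Coh.toAb M) p).trans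
    (e'.trans (SiteCoh.huTerminalEquiv (Opens.grothendieckTopology Y) isTerminalTop
      (Coh.toAb ((Coh.push f).obj M)) p).symm)).toEquiv.symm.subsingleton

/-- The structure sheaf is a summand of the direct image of a finite flat cover of invertible degree. -/
theorem exists_splitMono_algMod (f : X ⟶ Y) [IsFinite f] [Flat f] [LocallyOfFinitePresentation f] {d : ℕ}
    (hd : ∀ y, f.finrank y = d) (hu : IsUnit (d : Γ(Y, ⊤))) :
    ∃ i : Coh.structureModule Y ⟶ ResDesc.algMod f, IsSplitMono i := by
  let A := RelSpec.QCAlg.directImage f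
  have hA : FlatMod.IsFinLocFreeOfRank d A.toModule := FEtRank.isFinLocFreeOfRank_of_finrank_eq f hd
  have hA' : FlatMod.IsFinLocFree A.toModule := fun y => let ⟨U, h1, h2⟩ := hA y; ⟨U, d, h1, h2⟩
  obtain ⟨τ, hτ⟩ := FinCovTr.exists_trace hA'
  have hτ' := FinCovTr.isTrace_of hA' τ hτ
  have : IsIso (FinCov.strMod A ≫ τ) := by
    rw [Scheme.Modules.Hom.isIso_iff_isIso_app]
    intro V
    rw [ConcreteCategory.isIso_iff_bijective]
    obtain ⟨w, hw⟩ := (show IsUnit (d : Γ(Y, V)) by simpa only [map_natCast] using hu.map (QC.resO Y (le_top : V ≤ ⊤)))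
    have he : ((FinCov.strMod A ≫ τ).app V : Γ(Y, V) → Γ(Y, V)) = fun s => s * (w : Γ(Y, V)) := by
      funext s
      rw [hw]
      exact S19696.composite_app A d hA τ hτ' V s
    change Function.Bijective ((FinCov.strMod A ≫ τ).app V : Γ(Y, V) → Γ(Y, V))
    rw [he]
    exact Units.mulRight_bijective w
  exact ⟨FinCov.strMod A, IsSplitMono.mk' ⟨τ ≫ inv (FinCov.strMod A ≫ τ), by rw [← Category.assoc, IsIso.hom_inv_id]⟩⟩

/-- Vanishing descends along finite flat covers of invertible degree. -/
theorem subsingleton_hh_of_pullback (f : X ⟶ Y) [IsFinite f] [Flat f] [LocallyOfFinitePresentation f] {d : ℕ}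
    (hd : ∀ y, f.finrank y = d) (hu : IsUnit (d : Γ(Y, ⊤))) (G : Y.Modules) (hG : Coh.IsQCoh G) (p : ℕ)
    (h : Subsingleton (Coh.HH X ((Scheme.Modules.pullback f).obj G) p)) : Subsingleton (Coh.HH Y G p) := by
  obtain ⟨i, hi⟩ := exists_splitMono_algMod f hd hu
  haveI := hi
  haveI : ((Scheme.Modules.pullback f).obj G).IsQuasicoherent := QC.isQCoh_pullback f hG
  have hP : FlatMod.IsFinLocFree (ResDesc.algMod f) := fun y =>
    let ⟨U, h1, h2⟩ := FEtRank.isFinLocFreeOfRank_of_finrank_eq f hd y; ⟨U, d, h1, h2⟩
  haveI := ResDesc.isIso_phi f G hP hG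
  haveI : IsSplitMono ((S0927.tens G).map i) :=
    IsSplitMono.mk' ⟨(S0927.tens G).map (retraction i), by
      rw [← Functor.map_comp, IsSplitMono.id, CategoryTheory.Functor.map_id]⟩
  have h1 := CohQC.hh_subsingleton_of_iso (asIso (ResDesc.phi f G)).symm p (subsingleton_hh_of_affine f _ p h)
  have h2 := CohQC.hh_subsingleton_of_iso (TMul.commIso (ResDesc.algMod f) G) p h1
  have h3 := subsingleton_hh_retract ((S0927.tens G).map i) p h2
  exact CohQC.hh_subsingleton_of_iso (TMul.commIso G (Coh.structureModule Y) ≪≫ TMul.leftUnitIso G) p h3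

end Groth.Agent.AVVanish
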